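import Cfsg.Agent.Lib.CosetEnum.LyG2.Full.Data

/-! Generated certificate. -/

set_option autoImplicit false
set_option maxRecDepth 20000

namespace Cfsg.Lib.CosetEnum.LyG2.Full

theorem closed_0 : Signed.closedOKS 6 tabF tabZ tabP 278880 3906 [0, 1, 2, 3, 4, 5, 6, 7, 8, 9, 10, 11] 1500 0 = true := by decide +kernel

theorem closed_1 : Signed.closedOKS 6 tabF tabZ tabP 278880 3906 [0, 1, 2, 3, 4, 5, 6, 7, 8, 9, 10, 11] 1500 1500 = true := by decide +kernel

theorem closed_2 : Signed.closedOKS 6 tabF tabZ tabP 278880 3906 [0, 1, 2, 3, 4, 5, 6, 7, 8, 9, 10, 11] 906 3000 = true := by decide +kernel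

end Cfsg.Lib.CosetEnum.LyG2.Full
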