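import Cfsg.Agent.Lib.CosetEnum.LyG2.Full.Data

/-! Generated certificate. -/

set_option autoImplicit false
set_option maxRecDepth 20000

namespace Cfsg.Lib.CosetEnum.LyG2.Full

theorem labs_0 : Signed.labsOK 6 tabF 6000 0 = true := by decide +kernel

theorem labs_1 : Signed.labsOK 6 tabF 6000 6000 = true := by decide +kernel

theorem labs_2 : Signed.labsOK 6 tabF 6000 12000 = true := by decide +kernel

theorem labs_3 : Signed.labsOK 6 tabF 6000 18000 = true := by decide +kernel

theorem labs_4 : Signed.labsOK 6 tabF 6000 24000 = true := by decide +kernel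

theorem labs_5 : Signed.labsOK 6 tabF 6000 30000 = true := by decide +kernel

theorem labs_6 : Signed.labsOK 6 tabF 6000 36000 = true := by decide +kernel

theorem labs_7 : Signed.labsOK 6 tabF 6000 42000 = true := by decide +kernel

end Cfsg.Lib.CosetEnum.LyG2.Full
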