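import Cfsg.Agent.Lib.CosetEnum.LyG2.Full.Data

/-! Generated certificate. -/

set_option autoImplicit false
set_option maxRecDepth 20000

namespace Cfsg.Lib.CosetEnum.LyG2.Full

theorem steps_80 : Signed.stepsOKS 6 relWords subWords tabF tabC 65076 1500 120000 = true := by decide +kernel

theorem steps_81 : Signed.stepsOKS 6 relWords subWords tabF tabC 65076 1500 121500 = true := by decide +kernel

theorem steps_82 : Signed.stepsOKS 6 relWords subWords tabF tabC 65076 1500 123000 = true := by decide +kernel

theorem steps_83 : Signed.stepsOKS 6 relWords subWords tabF tabC 65076 1500 124500 = true := by decide +kernel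

theorem steps_84 : Signed.stepsOKS 6 relWords subWords tabF tabC 65076 1500 126000 = true := by decide +kernel

theorem steps_85 : Signed.stepsOKS 6 relWords subWords tabF tabC 65076 1500 127500 = true := by decide +kernel

theorem steps_86 : Signed.stepsOKS 6 relWords subWords tabF tabC 65076 1500 129000 = true := by decide +kernel

theorem steps_87 : Signed.stepsOKS 6 relWords subWords tabF tabC 65076 1500 130500 = true := by decide +kernel

end Cfsg.Lib.CosetEnum.LyG2.Full
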