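import Cfsg.Agent.Lib.CosetEnum.LyG2.Full.Data

/-! Generated certificate. -/

set_option autoImplicit false
set_option maxRecDepth 20000

namespace Cfsg.Lib.CosetEnum.LyG2.Full

theorem steps_88 : Signed.stepsOKS 6 relWords subWords tabF tabC 65076 1500 132000 = true := by decide +kernel

theorem steps_89 : Signed.stepsOKS 6 relWords subWords tabF tabC 65076 1500 133500 = true := by decide +kernel

theorem steps_90 : Signed.stepsOKS 6 relWords subWords tabF tabC 65076 1500 135000 = true := by decide +kernel

theorem steps_91 : Signed.stepsOKS 6 relWords subWords tabF tabC 65076 1500 136500 = true := by decide +kernel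

theorem steps_92 : Signed.stepsOKS 6 relWords subWords tabF tabC 65076 1500 138000 = true := by decide +kernel

theorem steps_93 : Signed.stepsOKS 6 relWords subWords tabF tabC 65076 1500 139500 = true := by decide +kernel

theorem steps_94 : Signed.stepsOKS 6 relWords subWords tabF tabC 65076 1500 141000 = true := by decide +kernel

theorem steps_95 : Signed.stepsOKS 6 relWords subWords tabF tabC 65076 1500 142500 = true := by decide +kernel

end Cfsg.Lib.CosetEnum.LyG2.Full
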