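import Cfsg.Agent.Lib.CosetEnum.LyG2.Full.Data

/-! Generated certificate. -/

set_option autoImplicit false
set_option maxRecDepth 20000

namespace Cfsg.Lib.CosetEnum.LyG2.Full

theorem steps_96 : Signed.stepsOKS 6 relWords subWords tabF tabC 65076 1500 144000 = true := by decide +kernel

theorem steps_97 : Signed.stepsOKS 6 relWords subWords tabF tabC 65076 1500 145500 = true := by decide +kernel

theorem steps_98 : Signed.stepsOKS 6 relWords subWords tabF tabC 65076 1500 147000 = true := by decide +kernel

theorem steps_99 : Signed.stepsOKS 6 relWords subWords tabF tabC 65076 1500 148500 = true := by decide +kernel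

theorem steps_100 : Signed.stepsOKS 6 relWords subWords tabF tabC 65076 1500 150000 = true := by decide +kernel

theorem steps_101 : Signed.stepsOKS 6 relWords subWords tabF tabC 65076 1500 151500 = true := by decide +kernel

theorem steps_102 : Signed.stepsOKS 6 relWords subWords tabF tabC 65076 1500 153000 = true := by decide +kernel

theorem steps_103 : Signed.stepsOKS 6 relWords subWords tabF tabC 65076 1500 154500 = true := by decide +kernel

end Cfsg.Lib.CosetEnum.LyG2.Full
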