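import Cfsg.Agent.Lib.CosetEnum.LyG2.Full.Data

/-! Generated certificate. -/

set_option autoImplicit false
set_option maxRecDepth 20000

namespace Cfsg.Lib.CosetEnum.LyG2.Full

theorem steps_104 : Signed.stepsOKS 6 relWords subWords tabF tabC 65076 1500 156000 = true := by decide +kernel

theorem steps_105 : Signed.stepsOKS 6 relWords subWords tabF tabC 65076 1500 157500 = true := by decide +kernel

theorem steps_106 : Signed.stepsOKS 6 relWords subWords tabF tabC 65076 1500 159000 = true := by decide +kernel

theorem steps_107 : Signed.stepsOKS 6 relWords subWords tabF tabC 65076 1500 160500 = true := by decide +kernel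

theorem steps_108 : Signed.stepsOKS 6 relWords subWords tabF tabC 65076 1500 162000 = true := by decide +kernel

theorem steps_109 : Signed.stepsOKS 6 relWords subWords tabF tabC 65076 1500 163500 = true := by decide +kernel

theorem steps_110 : Signed.stepsOKS 6 relWords subWords tabF tabC 65076 1500 165000 = true := by decide +kernel

theorem steps_111 : Signed.stepsOKS 6 relWords subWords tabF tabC 65076 1500 166500 = true := by decide +kernel

end Cfsg.Lib.CosetEnum.LyG2.Full
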