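import Cfsg.Agent.Lib.CosetEnum.LyG2.Full.Data

/-! Generated certificate. -/

set_option autoImplicit false
set_option maxRecDepth 20000

namespace Cfsg.Lib.CosetEnum.LyG2.Full

theorem steps_112 : Signed.stepsOKS 6 relWords subWords tabF tabC 65076 1500 168000 = true := by decide +kernel

theorem steps_113 : Signed.stepsOKS 6 relWords subWords tabF tabC 65076 1500 169500 = true := by decide +kernel

theorem steps_114 : Signed.stepsOKS 6 relWords subWords tabF tabC 65076 1500 171000 = true := by decide +kernel

theorem steps_115 : Signed.stepsOKS 6 relWords subWords tabF tabC 65076 1500 172500 = true := by decide +kernel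

theorem steps_116 : Signed.stepsOKS 6 relWords subWords tabF tabC 65076 1500 174000 = true := by decide +kernel

theorem steps_117 : Signed.stepsOKS 6 relWords subWords tabF tabC 65076 1500 175500 = true := by decide +kernel

theorem steps_118 : Signed.stepsOKS 6 relWords subWords tabF tabC 65076 1500 177000 = true := by decide +kernel

theorem steps_119 : Signed.stepsOKS 6 relWords subWords tabF tabC 65076 1500 178500 = true := by decide +kernel

end Cfsg.Lib.CosetEnum.LyG2.Full
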