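import Cfsg.Agent.Lib.CosetEnum.LyG2.Full.Data

/-! Generated certificate. -/

set_option autoImplicit false
set_option maxRecDepth 20000

namespace Cfsg.Lib.CosetEnum.LyG2.Full

theorem steps_120 : Signed.stepsOKS 6 relWords subWords tabF tabC 65076 1500 180000 = true := by decide +kernel

theorem steps_121 : Signed.stepsOKS 6 relWords subWords tabF tabC 65076 1500 181500 = true := by decide +kernel

theorem steps_122 : Signed.stepsOKS 6 relWords subWords tabF tabC 65076 1500 183000 = true := by decide +kernel

theorem steps_123 : Signed.stepsOKS 6 relWords subWords tabF tabC 65076 1500 184500 = true := by decide +kernel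

theorem steps_124 : Signed.stepsOKS 6 relWords subWords tabF tabC 65076 1500 186000 = true := by decide +kernel

theorem steps_125 : Signed.stepsOKS 6 relWords subWords tabF tabC 65076 1500 187500 = true := by decide +kernel

theorem steps_126 : Signed.stepsOKS 6 relWords subWords tabF tabC 65076 1500 189000 = true := by decide +kernel

theorem steps_127 : Signed.stepsOKS 6 relWords subWords tabF tabC 65076 1500 190500 = true := by decide +kernel

end Cfsg.Lib.CosetEnum.LyG2.Full
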