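import Cfsg.Agent.Lib.CosetEnum.LyG2.Full.Data

/-! Generated certificate. -/

set_option autoImplicit false
set_option maxRecDepth 20000

namespace Cfsg.Lib.CosetEnum.LyG2.Full

theorem steps_136 : Signed.stepsOKS 6 relWords subWords tabF tabC 65076 1500 204000 = true := by decide +kernel

theorem steps_137 : Signed.stepsOKS 6 relWords subWords tabF tabC 65076 1500 205500 = true := by decide +kernel

theorem steps_138 : Signed.stepsOKS 6 relWords subWords tabF tabC 65076 1500 207000 = true := by decide +kernel

theorem steps_139 : Signed.stepsOKS 6 relWords subWords tabF tabC 65076 1500 208500 = true := by decide +kernel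

theorem steps_140 : Signed.stepsOKS 6 relWords subWords tabF tabC 65076 1500 210000 = true := by decide +kernel

theorem steps_141 : Signed.stepsOKS 6 relWords subWords tabF tabC 65076 1500 211500 = true := by decide +kernel

theorem steps_142 : Signed.stepsOKS 6 relWords subWords tabF tabC 65076 804 213000 = true := by decide +kernel

end Cfsg.Lib.CosetEnum.LyG2.Full
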