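import Cfsg.Agent.Lib.CosetEnum.LyG2.Full.Data

/-! Generated certificate. -/

set_option autoImplicit false
set_option maxRecDepth 20000

namespace Cfsg.Lib.CosetEnum.LyG2.Full

theorem steps_32 : Signed.stepsOKS 6 relWords subWords tabF tabC 65076 1500 48000 = true := by decide +kernel

theorem steps_33 : Signed.stepsOKS 6 relWords subWords tabF tabC 65076 1500 49500 = true := by decide +kernel

theorem steps_34 : Signed.stepsOKS 6 relWords subWords tabF tabC 65076 1500 51000 = true := by decide +kernel

theorem steps_35 : Signed.stepsOKS 6 relWords subWords tabF tabC 65076 1500 52500 = true := by decide +kernel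

theorem steps_36 : Signed.stepsOKS 6 relWords subWords tabF tabC 65076 1500 54000 = true := by decide +kernel

theorem steps_37 : Signed.stepsOKS 6 relWords subWords tabF tabC 65076 1500 55500 = true := by decide +kernel

theorem steps_38 : Signed.stepsOKS 6 relWords subWords tabF tabC 65076 1500 57000 = true := by decide +kernel

theorem steps_39 : Signed.stepsOKS 6 relWords subWords tabF tabC 65076 1500 58500 = true := by decide +kernel

end Cfsg.Lib.CosetEnum.LyG2.Full
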