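import Cfsg.Agent.Lib.CosetEnum.LyG2.Full.Data

/-! Generated certificate. -/

set_option autoImplicit false
set_option maxRecDepth 20000

namespace Cfsg.Lib.CosetEnum.LyG2.Full

theorem steps_40 : Signed.stepsOKS 6 relWords subWords tabF tabC 65076 1500 60000 = true := by decide +kernel

theorem steps_41 : Signed.stepsOKS 6 relWords subWords tabF tabC 65076 1500 61500 = true := by decide +kernel

theorem steps_42 : Signed.stepsOKS 6 relWords subWords tabF tabC 65076 1500 63000 = true := by decide +kernel

theorem steps_43 : Signed.stepsOKS 6 relWords subWords tabF tabC 65076 1500 64500 = true := by decide +kernel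

theorem steps_44 : Signed.stepsOKS 6 relWords subWords tabF tabC 65076 1500 66000 = true := by decide +kernel

theorem steps_45 : Signed.stepsOKS 6 relWords subWords tabF tabC 65076 1500 67500 = true := by decide +kernel

theorem steps_46 : Signed.stepsOKS 6 relWords subWords tabF tabC 65076 1500 69000 = true := by decide +kernel

theorem steps_47 : Signed.stepsOKS 6 relWords subWords tabF tabC 65076 1500 70500 = true := by decide +kernel

end Cfsg.Lib.CosetEnum.LyG2.Full
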