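import Cfsg.Agent.Lib.CosetEnum.LyG2.Full.Data

/-! Generated certificate. -/

set_option autoImplicit false
set_option maxRecDepth 20000

namespace Cfsg.Lib.CosetEnum.LyG2.Full

theorem steps_64 : Signed.stepsOKS 6 relWords subWords tabF tabC 65076 1500 96000 = true := by decide +kernel

theorem steps_65 : Signed.stepsOKS 6 relWords subWords tabF tabC 65076 1500 97500 = true := by decide +kernel

theorem steps_66 : Signed.stepsOKS 6 relWords subWords tabF tabC 65076 1500 99000 = true := by decide +kernel

theorem steps_67 : Signed.stepsOKS 6 relWords subWords tabF tabC 65076 1500 100500 = true := by decide +kernel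

theorem steps_68 : Signed.stepsOKS 6 relWords subWords tabF tabC 65076 1500 102000 = true := by decide +kernel

theorem steps_69 : Signed.stepsOKS 6 relWords subWords tabF tabC 65076 1500 103500 = true := by decide +kernel

theorem steps_70 : Signed.stepsOKS 6 relWords subWords tabF tabC 65076 1500 105000 = true := by decide +kernel

theorem steps_71 : Signed.stepsOKS 6 relWords subWords tabF tabC 65076 1500 106500 = true := by decide +kernel

end Cfsg.Lib.CosetEnum.LyG2.Full
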