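import Cfsg.Agent.Lib.CosetEnum.LyG2.Full.Data

/-! Generated certificate. -/

set_option autoImplicit false
set_option maxRecDepth 20000

namespace Cfsg.Lib.CosetEnum.LyG2.Full

theorem steps_72 : Signed.stepsOKS 6 relWords subWords tabF tabC 65076 1500 108000 = true := by decide +kernel

theorem steps_73 : Signed.stepsOKS 6 relWords subWords tabF tabC 65076 1500 109500 = true := by decide +kernel

theorem steps_74 : Signed.stepsOKS 6 relWords subWords tabF tabC 65076 1500 111000 = true := by decide +kernel

theorem steps_75 : Signed.stepsOKS 6 relWords subWords tabF tabC 65076 1500 112500 = true := by decide +kernel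

theorem steps_76 : Signed.stepsOKS 6 relWords subWords tabF tabC 65076 1500 114000 = true := by decide +kernel

theorem steps_77 : Signed.stepsOKS 6 relWords subWords tabF tabC 65076 1500 115500 = true := by decide +kernel

theorem steps_78 : Signed.stepsOKS 6 relWords subWords tabF tabC 65076 1500 117000 = true := by decide +kernel

theorem steps_79 : Signed.stepsOKS 6 relWords subWords tabF tabC 65076 1500 118500 = true := by decide +kernel

end Cfsg.Lib.CosetEnum.LyG2.Full
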