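import Cfsg.Agent.Lib.CosetEnum.LyG2.Full.DefsPart0
import Cfsg.Agent.Lib.CosetEnum.LyG2.Full.DefsPart1
import Cfsg.Agent.Lib.CosetEnum.LyG2.Full.LabsPart0
import Cfsg.Agent.Lib.CosetEnum.LyG2.Full.LabsPart1
import Cfsg.Agent.Lib.CosetEnum.LyG2.Full.StepsPart0
import Cfsg.Agent.Lib.CosetEnum.LyG2.Full.StepsPart1
import Cfsg.Agent.Lib.CosetEnum.LyG2.Full.StepsPart2
import Cfsg.Agent.Lib.CosetEnum.LyG2.Full.StepsPart3
import Cfsg.Agent.Lib.CosetEnum.LyG2.Full.StepsPart4
import Cfsg.Agent.Lib.CosetEnum.LyG2.Full.StepsPart5
import Cfsg.Agent.Lib.CosetEnum.LyG2.Full.StepsPart6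
import Cfsg.Agent.Lib.CosetEnum.LyG2.Full.StepsPart7
import Cfsg.Agent.Lib.CosetEnum.LyG2.Full.StepsPart8
import Cfsg.Agent.Lib.CosetEnum.LyG2.Full.StepsPart9
import Cfsg.Agent.Lib.CosetEnum.LyG2.Full.StepsPart10
import Cfsg.Agent.Lib.CosetEnum.LyG2.Full.StepsPart11
import Cfsg.Agent.Lib.CosetEnum.LyG2.Full.StepsPart12
import Cfsg.Agent.Lib.CosetEnum.LyG2.Full.StepsPart13
import Cfsg.Agent.Lib.CosetEnum.LyG2.Full.StepsPart14
import Cfsg.Agent.Lib.CosetEnum.LyG2.Full.StepsPart15
import Cfsg.Agent.Lib.CosetEnum.LyG2.Full.StepsPart16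
import Cfsg.Agent.Lib.CosetEnum.LyG2.Full.StepsPart17
import Cfsg.Agent.Lib.CosetEnum.LyG2.Full.ClosedPart0

/-! Generated certificate. -/

set_option autoImplicit false
set_option maxRecDepth 20000

namespace Cfsg.Lib.CosetEnum.LyG2.Full

theorem step_valid : step.Valid where
  pos := by decide +kernel
  defs := (defsOK_append (a := 30000) (b := 35076) (defsOK_append (a := 12000) (b := 18000) (defsOK_append (a := 6000) (b := 6000) defs_0 defs_1) (defsOK_append (a := 6000) (b := 12000) defs_2 (defsOK_append (a := 6000) (b := 6000) defs_3 defs_4))) (defsOK_append (a := 18000) (b := 17076) (defsOK_append (a := 6000) (b := 12000) defs_5 (defsOK_append (a := 6000) (b := 6000) defs_6 defs_7)) (defsOK_append (a := 6000) (b := 11076) defs_8 (defsOK_append (a := 6000) (b := 5076) defs_9 defs_10))))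
  labs := (Signed.labsOK_append (a := 30000) (b := 35076) (Signed.labsOK_append (a := 12000) (b := 18000) (Signed.labsOK_append (a := 6000) (b := 6000) labs_0 labs_1) (Signed.labsOK_append (a := 6000) (b := 12000) labs_2 (Signed.labsOK_append (a := 6000) (b := 6000) labs_3 labs_4))) (Signed.labsOK_append (a := 18000) (b := 17076) (Signed.labsOK_append (a := 6000) (b := 12000) labs_5 (Signed.labsOK_append (a := 6000) (b := 6000) labs_6 labs_7)) (Signed.labsOK_append (a := 6000) (b := 11076) labs_8 (Signed.labsOK_append (a := 6000) (b := 5076) labs_9 labs_10))))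
  steps := (Signed.stepsOKS_append (m := 106500) (n := 107304) (Signed.stepsOKS_append (m := 52500) (n := 54000) (Signed.stepsOKS_append (m := 25500) (n := 27000) (Signed.stepsOKS_append (m := 12000) (n := 13500) (Signed.stepsOKS_append (m := 6000) (n := 6000) (Signed.stepsOKS_append (m := 3000) (n := 3000) (Signed.stepsOKS_append (m := 1500) (n := 1500) steps_0 steps_1) (Signed.stepsOKS_append (m := 1500) (n := 1500) steps_2 steps_3)) (Signed.stepsOKS_append (m := 3000) (n := 3000) (Signed.stepsOKS_append (m := 1500) (n := 1500) steps_4 steps_5) (Signed.stepsOKS_append (m := 1500) (n := 1500) steps_6 steps_7))) (Signed.stepsOKS_append (m := 6000) (n := 7500) (Signed.stepsOKS_append (m := 3000) (n := 3000) (Signed.stepsOKS_append (m := 1500) (n := 1500) steps_8 steps_9) (Signed.stepsOKS_append (m := 1500) (n := 1500) steps_10 steps_11)) (Signed.stepsOKS_append (m := 3000) (n := 4500) (Signed.stepsOKS_append (m := 1500) (n := 1500) steps_12 steps_13) (Signed.stepsOKS_append (m := 1500) (n := 3000) steps_14 (Signed.stepsOKS_append (m := 1500)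 (n := 1500) steps_15 steps_16))))) (Signed.stepsOKS_append (m := 13500) (n := 13500) (Signed.stepsOKS_append (m := 6000) (n := 7500) (Signed.stepsOKS_append (m := 3000) (n := 3000) (Signed.stepsOKS_append (m := 1500) (n := 1500) steps_17 steps_18) (Signed.stepsOKS_append (m := 1500) (n := 1500) steps_19 steps_20)) (Signed.stepsOKS_append (m := 3000) (n := 4500) (Signed.stepsOKS_append (m := 1500) (n := 1500) steps_21 steps_22) (Signed.stepsOKS_append (m := 1500) (n := 3000) steps_23 (Signed.stepsOKS_append (m := 1500) (n := 1500) steps_24 steps_25)))) (Signed.stepsOKS_append (m := 6000) (n := 7500) (Signed.stepsOKS_append (m := 3000) (n := 3000) (Signed.stepsOKS_append (m := 1500) (n := 1500) steps_26 steps_27) (Signed.stepsOKS_append (m := 1500) (n := 1500) steps_28 steps_29)) (Signed.stepsOKS_append (m := 3000) (n := 4500) (Signed.stepsOKS_append (m := 1500) (n := 1500) steps_30 steps_31) (Signed.stepsOKS_append (m := 1500) (n := 3000) steps_32 (Signed.stepsOKS_append (m := 1500) (n := 1500) steps_33 steps_34)))))) (Signed.stepsOKS_append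 (m := 27000) (n := 27000) (Signed.stepsOKS_append (m := 13500) (n := 13500) (Signed.stepsOKS_append (m := 6000) (n := 7500) (Signed.stepsOKS_append (m := 3000) (n := 3000) (Signed.stepsOKS_append (m := 1500) (n := 1500) steps_35 steps_36) (Signed.stepsOKS_append (m := 1500) (n := 1500) steps_37 steps_38)) (Signed.stepsOKS_append (m := 3000) (n := 4500) (Signed.stepsOKS_append (m := 1500) (n := 1500) steps_39 steps_40) (Signed.stepsOKS_append (m := 1500) (n := 3000) steps_41 (Signed.stepsOKS_append (m := 1500) (n := 1500) steps_42 steps_43)))) (Signed.stepsOKS_append (m := 6000) (n := 7500) (Signed.stepsOKS_append (m := 3000) (n := 3000) (Signed.stepsOKS_append (m := 1500) (n := 1500) steps_44 steps_45) (Signed.stepsOKS_append (m := 1500) (n := 1500) steps_46 steps_47)) (Signed.stepsOKS_append (m := 3000) (n := 4500) (Signed.stepsOKS_append (m := 1500) (n := 1500) steps_48 steps_49) (Signed.stepsOKS_append (m := 1500) (n := 3000) steps_50 (Signed.stepsOKS_append (m := 1500) (n := 1500) steps_51 steps_52))))) (Signed.stepsOKS_append (m := 13500)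 (n := 13500) (Signed.stepsOKS_append (m := 6000) (n := 7500) (Signed.stepsOKS_append (m := 3000) (n := 3000) (Signed.stepsOKS_append (m := 1500) (n := 1500) steps_53 steps_54) (Signed.stepsOKS_append (m := 1500) (n := 1500) steps_55 steps_56)) (Signed.stepsOKS_append (m := 3000) (n := 4500) (Signed.stepsOKS_append (m := 1500) (n := 1500) steps_57 steps_58) (Signed.stepsOKS_append (m := 1500) (n := 3000) steps_59 (Signed.stepsOKS_append (m := 1500) (n := 1500) steps_60 steps_61)))) (Signed.stepsOKS_append (m := 6000) (n := 7500) (Signed.stepsOKS_append (m := 3000) (n := 3000) (Signed.stepsOKS_append (m := 1500) (n := 1500) steps_62 steps_63) (Signed.stepsOKS_append (m := 1500) (n := 1500) steps_64 steps_65)) (Signed.stepsOKS_append (m := 3000) (n := 4500) (Signed.stepsOKS_append (m := 1500) (n := 1500) steps_66 steps_67) (Signed.stepsOKS_append (m := 1500) (n := 3000) steps_68 (Signed.stepsOKS_append (m := 1500) (n := 1500) steps_69 steps_70))))))) (Signed.stepsOKS_append (m := 54000) (n := 53304) (Signed.stepsOKS_append (m := 27000) (n := 27000)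 (Signed.stepsOKS_append (m := 13500) (n := 13500) (Signed.stepsOKS_append (m := 6000) (n := 7500) (Signed.stepsOKS_append (m := 3000) (n := 3000) (Signed.stepsOKS_append (m := 1500) (n := 1500) steps_71 steps_72) (Signed.stepsOKS_append (m := 1500) (n := 1500) steps_73 steps_74)) (Signed.stepsOKS_append (m := 3000) (n := 4500) (Signed.stepsOKS_append (m := 1500) (n := 1500) steps_75 steps_76) (Signed.stepsOKS_append (m := 1500) (n := 3000) steps_77 (Signed.stepsOKS_append (m := 1500) (n := 1500) steps_78 steps_79)))) (Signed.stepsOKS_append (m := 6000) (n := 7500) (Signed.stepsOKS_append (m := 3000) (n := 3000) (Signed.stepsOKS_append (m := 1500) (n := 1500) steps_80 steps_81) (Signed.stepsOKS_append (m := 1500) (n := 1500) steps_82 steps_83)) (Signed.stepsOKS_append (m := 3000) (n := 4500) (Signed.stepsOKS_append (m := 1500) (n := 1500) steps_84 steps_85) (Signed.stepsOKS_append (m := 1500) (n := 3000) steps_86 (Signed.stepsOKS_append (m := 1500) (n := 1500) steps_87 steps_88))))) (Signed.stepsOKS_append (m := 13500) (n := 13500) (Signed.stepsOKS_append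 (m := 6000) (n := 7500) (Signed.stepsOKS_append (m := 3000) (n := 3000) (Signed.stepsOKS_append (m := 1500) (n := 1500) steps_89 steps_90) (Signed.stepsOKS_append (m := 1500) (n := 1500) steps_91 steps_92)) (Signed.stepsOKS_append (m := 3000) (n := 4500) (Signed.stepsOKS_append (m := 1500) (n := 1500) steps_93 steps_94) (Signed.stepsOKS_append (m := 1500) (n := 3000) steps_95 (Signed.stepsOKS_append (m := 1500) (n := 1500) steps_96 steps_97)))) (Signed.stepsOKS_append (m := 6000) (n := 7500) (Signed.stepsOKS_append (m := 3000) (n := 3000) (Signed.stepsOKS_append (m := 1500) (n := 1500) steps_98 steps_99) (Signed.stepsOKS_append (m := 1500) (n := 1500) steps_100 steps_101)) (Signed.stepsOKS_append (m := 3000) (n := 4500) (Signed.stepsOKS_append (m := 1500) (n := 1500) steps_102 steps_103) (Signed.stepsOKS_append (m := 1500) (n := 3000) steps_104 (Signed.stepsOKS_append (m := 1500) (n := 1500) steps_105 steps_106)))))) (Signed.stepsOKS_append (m := 27000) (n := 26304) (Signed.stepsOKS_append (m := 13500) (n := 13500) (Signed.stepsOKS_append (m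 := 6000) (n := 7500) (Signed.stepsOKS_append (m := 3000) (n := 3000) (Signed.stepsOKS_append (m := 1500) (n := 1500) steps_107 steps_108) (Signed.stepsOKS_append (m := 1500) (n := 1500) steps_109 steps_110)) (Signed.stepsOKS_append (m := 3000) (n := 4500) (Signed.stepsOKS_append (m := 1500) (n := 1500) steps_111 steps_112) (Signed.stepsOKS_append (m := 1500) (n := 3000) steps_113 (Signed.stepsOKS_append (m := 1500) (n := 1500) steps_114 steps_115)))) (Signed.stepsOKS_append (m := 6000) (n := 7500) (Signed.stepsOKS_append (m := 3000) (n := 3000) (Signed.stepsOKS_append (m := 1500) (n := 1500) steps_116 steps_117) (Signed.stepsOKS_append (m := 1500) (n := 1500) steps_118 steps_119)) (Signed.stepsOKS_append (m := 3000) (n := 4500) (Signed.stepsOKS_append (m := 1500) (n := 1500) steps_120 steps_121) (Signed.stepsOKS_append (m := 1500) (n := 3000) steps_122 (Signed.stepsOKS_append (m := 1500) (n := 1500) steps_123 steps_124))))) (Signed.stepsOKS_append (m := 13500) (n := 12804) (Signed.stepsOKS_append (m := 6000) (n := 7500) (Signed.stepsOKS_append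 (m := 3000) (n := 3000) (Signed.stepsOKS_append (m := 1500) (n := 1500) steps_125 steps_126) (Signed.stepsOKS_append (m := 1500) (n := 1500) steps_127 steps_128)) (Signed.stepsOKS_append (m := 3000) (n := 4500) (Signed.stepsOKS_append (m := 1500) (n := 1500) steps_129 steps_130) (Signed.stepsOKS_append (m := 1500) (n := 3000) steps_131 (Signed.stepsOKS_append (m := 1500) (n := 1500) steps_132 steps_133)))) (Signed.stepsOKS_append (m := 6000) (n := 6804) (Signed.stepsOKS_append (m := 3000) (n := 3000) (Signed.stepsOKS_append (m := 1500) (n := 1500) steps_134 steps_135) (Signed.stepsOKS_append (m := 1500) (n := 1500) steps_136 steps_137)) (Signed.stepsOKS_append (m := 3000) (n := 3804) (Signed.stepsOKS_append (m := 1500) (n := 1500) steps_138 steps_139) (Signed.stepsOKS_append (m := 1500) (n := 2304) steps_140 (Signed.stepsOKS_append (m := 1500) (n := 804) steps_141 steps_142))))))))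
  closed := (Signed.closedOKS_append (a := 1500) (b := 2406) closed_0 (Signed.closedOKS_append (a := 1500) (b := 906) closed_1 closed_2))

end Cfsg.Lib.CosetEnum.LyG2.Full
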