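import Cfsg.Agent.Lib.CosetEnum.Signed.Defs
import Cfsg.Agent.Lib.CosetEnum.LyG2.Full.TabF_Data0
import Cfsg.Agent.Lib.CosetEnum.LyG2.Full.TabF_Data1
import Cfsg.Agent.Lib.CosetEnum.LyG2.Full.TabF_Data2
import Cfsg.Agent.Lib.CosetEnum.LyG2.Full.TabF_Data3
import Cfsg.Agent.Lib.CosetEnum.LyG2.Full.TabF_Data4
import Cfsg.Agent.Lib.CosetEnum.LyG2.Full.TabF_Data5
import Cfsg.Agent.Lib.CosetEnum.LyG2.Full.TabF_Data6
import Cfsg.Agent.Lib.CosetEnum.LyG2.Full.TabF_Data7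
import Cfsg.Agent.Lib.CosetEnum.LyG2.Full.TabF_Data8
import Cfsg.Agent.Lib.CosetEnum.LyG2.Full.TabF_Data9
import Cfsg.Agent.Lib.CosetEnum.LyG2.Full.TabF_Data10
import Cfsg.Agent.Lib.CosetEnum.LyG2.Full.TabF_Data11
import Cfsg.Agent.Lib.CosetEnum.LyG2.Full.TabF_Data12
import Cfsg.Agent.Lib.CosetEnum.LyG2.Full.TabF_Data13
import Cfsg.Agent.Lib.CosetEnum.LyG2.Full.TabF_Data14
import Cfsg.Agent.Lib.CosetEnum.LyG2.Full.TabF_Data15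
import Cfsg.Agent.Lib.CosetEnum.LyG2.Full.TabF_Data16
import Cfsg.Agent.Lib.CosetEnum.LyG2.Full.TabF_Data17
import Cfsg.Agent.Lib.CosetEnum.LyG2.Full.TabC_Data0
import Cfsg.Agent.Lib.CosetEnum.LyG2.Full.TabC_Data1
import Cfsg.Agent.Lib.CosetEnum.LyG2.Full.TabC_Data2
import Cfsg.Agent.Lib.CosetEnum.LyG2.Full.TabC_Data3
import Cfsg.Agent.Lib.CosetEnum.LyG2.Full.TabC_Data4
import Cfsg.Agent.Lib.CosetEnum.LyG2.Full.TabC_Data5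
import Cfsg.Agent.Lib.CosetEnum.LyG2.Full.TabC_Data6
import Cfsg.Agent.Lib.CosetEnum.LyG2.Full.TabC_Data7
import Cfsg.Agent.Lib.CosetEnum.LyG2.Full.TabC_Data8
import Cfsg.Agent.Lib.CosetEnum.LyG2.Full.TabC_Data9
import Cfsg.Agent.Lib.CosetEnum.LyG2.Full.TabC_Data10
import Cfsg.Agent.Lib.CosetEnum.LyG2.Full.TabC_Data11
import Cfsg.Agent.Lib.CosetEnum.LyG2.Full.TabC_Data12
import Cfsg.Agent.Lib.CosetEnum.LyG2.Full.TabC_Data13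
import Cfsg.Agent.Lib.CosetEnum.LyG2.Full.TabC_Data14
import Cfsg.Agent.Lib.CosetEnum.LyG2.Full.TabC_Data15
import Cfsg.Agent.Lib.CosetEnum.LyG2.Full.TabC_Data16
import Cfsg.Agent.Lib.CosetEnum.LyG2.Full.TabC_Data17
import Cfsg.Agent.Lib.CosetEnum.LyG2.Full.TabC_Data18
import Cfsg.Agent.Lib.CosetEnum.LyG2.Full.TabC_Data19
import Cfsg.Agent.Lib.CosetEnum.LyG2.Full.TabC_Data20
import Cfsg.Agent.Lib.CosetEnum.LyG2.Full.TabC_Data21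
import Cfsg.Agent.Lib.CosetEnum.LyG2.Full.TabC_Data22
import Cfsg.Agent.Lib.CosetEnum.LyG2.Full.TabC_Data23
import Cfsg.Agent.Lib.CosetEnum.LyG2.Full.TabC_Data24
import Cfsg.Agent.Lib.CosetEnum.LyG2.Full.TabC_Data25
import Cfsg.Agent.Lib.CosetEnum.LyG2.Full.TabC_Data26
import Cfsg.Agent.Lib.CosetEnum.LyG2.Full.TabC_Data27
import Cfsg.Agent.Lib.CosetEnum.LyG2.Full.TabC_Data28
import Cfsg.Agent.Lib.CosetEnum.LyG2.Full.TabC_Data29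
import Cfsg.Agent.Lib.CosetEnum.LyG2.Full.TabC_Data30
import Cfsg.Agent.Lib.CosetEnum.LyG2.Full.TabC_Data31
import Cfsg.Agent.Lib.CosetEnum.LyG2.Full.TabC_Data32
import Cfsg.Agent.Lib.CosetEnum.LyG2.Full.TabC_Data33
import Cfsg.Agent.Lib.CosetEnum.LyG2.Full.TabC_Data34
import Cfsg.Agent.Lib.CosetEnum.LyG2.Full.TabC_Data35
import Cfsg.Agent.Lib.CosetEnum.LyG2.Full.TabC_Data36
import Cfsg.Agent.Lib.CosetEnum.LyG2.Full.TabC_Data37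
import Cfsg.Agent.Lib.CosetEnum.LyG2.Full.TabC_Data38
import Cfsg.Agent.Lib.CosetEnum.LyG2.Full.TabC_Data39
import Cfsg.Agent.Lib.CosetEnum.LyG2.Full.TabC_Data40
import Cfsg.Agent.Lib.CosetEnum.LyG2.Full.TabC_Data41
import Cfsg.Agent.Lib.CosetEnum.LyG2.Full.TabC_Data42
import Cfsg.Agent.Lib.CosetEnum.LyG2.Full.TabC_Data43
import Cfsg.Agent.Lib.CosetEnum.LyG2.Full.TabC_Data44
import Cfsg.Agent.Lib.CosetEnum.LyG2.Full.TabC_Data45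
import Cfsg.Agent.Lib.CosetEnum.LyG2.Full.TabC_Data46
import Cfsg.Agent.Lib.CosetEnum.LyG2.Full.TabC_Data47
import Cfsg.Agent.Lib.CosetEnum.LyG2.Full.TabC_Data48
import Cfsg.Agent.Lib.CosetEnum.LyG2.Full.TabC_Data49
import Cfsg.Agent.Lib.CosetEnum.LyG2.Full.TabC_Data50
import Cfsg.Agent.Lib.CosetEnum.LyG2.Full.TabC_Data51
import Cfsg.Agent.Lib.CosetEnum.LyG2.Full.TabC_Data52
import Cfsg.Agent.Lib.CosetEnum.LyG2.Full.TabC_Data53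
import Cfsg.Agent.Lib.CosetEnum.LyG2.Full.TabC_Data54
import Cfsg.Agent.Lib.CosetEnum.LyG2.Full.TabC_Data55
import Cfsg.Agent.Lib.CosetEnum.LyG2.Full.TabC_Data56
import Cfsg.Agent.Lib.CosetEnum.LyG2.Full.TabC_Data57
import Cfsg.Agent.Lib.CosetEnum.LyG2.Full.TabC_Data58
import Cfsg.Agent.Lib.CosetEnum.LyG2.Full.TabC_Data59
import Cfsg.Agent.Lib.CosetEnum.LyG2.Full.TabC_Data60
import Cfsg.Agent.Lib.CosetEnum.LyG2.Full.TabC_Data61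
import Cfsg.Agent.Lib.CosetEnum.LyG2.Full.TabC_Data62
import Cfsg.Agent.Lib.CosetEnum.LyG2.Full.TabC_Data63
import Cfsg.Agent.Lib.CosetEnum.LyG2.Full.TabC_Data64
import Cfsg.Agent.Lib.CosetEnum.LyG2.Full.TabC_Data65
import Cfsg.Agent.Lib.CosetEnum.LyG2.Full.TabC_Data66
import Cfsg.Agent.Lib.CosetEnum.LyG2.Full.TabC_Data67
import Cfsg.Agent.Lib.CosetEnum.LyG2.Full.TabC_Data68
import Cfsg.Agent.Lib.CosetEnum.LyG2.Full.TabC_Data69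
import Cfsg.Agent.Lib.CosetEnum.LyG2.Full.TabC_Data70
import Cfsg.Agent.Lib.CosetEnum.LyG2.Full.TabC_Data71
import Cfsg.Agent.Lib.CosetEnum.LyG2.Full.TabC_Data72
import Cfsg.Agent.Lib.CosetEnum.LyG2.Full.TabC_Data73
import Cfsg.Agent.Lib.CosetEnum.LyG2.Full.TabC_Data74
import Cfsg.Agent.Lib.CosetEnum.LyG2.Full.TabC_Data75
import Cfsg.Agent.Lib.CosetEnum.LyG2.Full.TabC_Data76
import Cfsg.Agent.Lib.CosetEnum.LyG2.Full.TabC_Data77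
import Cfsg.Agent.Lib.CosetEnum.LyG2.Full.TabC_Data78
import Cfsg.Agent.Lib.CosetEnum.LyG2.Full.TabC_Data79
import Cfsg.Agent.Lib.CosetEnum.LyG2.Full.TabC_Data80
import Cfsg.Agent.Lib.CosetEnum.LyG2.Full.TabC_Data81
import Cfsg.Agent.Lib.CosetEnum.LyG2.Full.TabC_Data82
import Cfsg.Agent.Lib.CosetEnum.LyG2.Full.TabC_Data83
import Cfsg.Agent.Lib.CosetEnum.LyG2.Full.TabC_Data84
import Cfsg.Agent.Lib.CosetEnum.LyG2.Full.TabC_Data85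
import Cfsg.Agent.Lib.CosetEnum.LyG2.Full.TabC_Data86
import Cfsg.Agent.Lib.CosetEnum.LyG2.Full.TabC_Data87
import Cfsg.Agent.Lib.CosetEnum.LyG2.Full.TabC_Data88
import Cfsg.Agent.Lib.CosetEnum.LyG2.Full.TabC_Data89
import Cfsg.Agent.Lib.CosetEnum.LyG2.Full.TabC_Data90
import Cfsg.Agent.Lib.CosetEnum.LyG2.Full.TabC_Data91
import Cfsg.Agent.Lib.CosetEnum.LyG2.Full.TabC_Data92
import Cfsg.Agent.Lib.CosetEnum.LyG2.Full.TabC_Data93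
import Cfsg.Agent.Lib.CosetEnum.LyG2.Full.TabC_Data94
import Cfsg.Agent.Lib.CosetEnum.LyG2.Full.TabC_Data95
import Cfsg.Agent.Lib.CosetEnum.LyG2.Full.TabC_Data96
import Cfsg.Agent.Lib.CosetEnum.LyG2.Full.TabC_Data97
import Cfsg.Agent.Lib.CosetEnum.LyG2.Full.TabC_Data98
import Cfsg.Agent.Lib.CosetEnum.LyG2.Full.TabC_Data99
import Cfsg.Agent.Lib.CosetEnum.LyG2.Full.TabC_Data100
import Cfsg.Agent.Lib.CosetEnum.LyG2.Full.TabC_Data101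
import Cfsg.Agent.Lib.CosetEnum.LyG2.Full.TabC_Data102
import Cfsg.Agent.Lib.CosetEnum.LyG2.Full.TabC_Data103
import Cfsg.Agent.Lib.CosetEnum.LyG2.Full.TabC_Data104
import Cfsg.Agent.Lib.CosetEnum.LyG2.Full.TabZ_Data0
import Cfsg.Agent.Lib.CosetEnum.LyG2.Full.TabZ_Data1
import Cfsg.Agent.Lib.CosetEnum.LyG2.Full.TabZ_Data2
import Cfsg.Agent.Lib.CosetEnum.LyG2.Full.TabP_Data0
import Cfsg.Agent.Lib.CosetEnum.LyG2.Full.TabP_Data1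
import Cfsg.Agent.Lib.CosetEnum.LyG2.Full.TabP_Data2

/-! Generated certificate. -/

set_option autoImplicit false
set_option maxRecDepth 20000

namespace Cfsg.Lib.CosetEnum.LyG2.Full

/-- Table. -/
def tabF : Tab :=
  (.node 4096 (.node 2048 (.node 1024 (.node 512 (.node 256 tabF_0 tabF_1) (.node 256 tabF_2 tabF_3)) (.node 512 (.node 256 tabF_4 tabF_5) (.node 256 tabF_6 tabF_7))) (.node 1024 (.node 512 (.node 256 tabF_8 tabF_9) (.node 256 tabF_10 tabF_11)) (.node 512 (.node 256 tabF_12 tabF_13) (.node 256 tabF_14 tabF_15)))) (.node 256 tabF_16 tabF_17))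

/-- Table. -/
def tabC : Tab :=
  (.node 131072 (.node 65536 (.node 32768 (.node 16384 (.node 8192 (.node 4096 (.node 2048 tabC_0 tabC_1) (.node 2048 tabC_2 tabC_3)) (.node 4096 (.node 2048 tabC_4 tabC_5) (.node 2048 tabC_6 tabC_7))) (.node 8192 (.node 4096 (.node 2048 tabC_8 tabC_9) (.node 2048 tabC_10 tabC_11)) (.node 4096 (.node 2048 tabC_12 tabC_13) (.node 2048 tabC_14 tabC_15)))) (.node 16384 (.node 8192 (.node 4096 (.node 2048 tabC_16 tabC_17) (.node 2048 tabC_18 tabC_19)) (.node 4096 (.node 2048 tabC_20 tabC_21) (.node 2048 tabC_22 tabC_23))) (.node 8192 (.node 4096 (.node 2048 tabC_24 tabC_25) (.node 2048 tabC_26 tabC_27)) (.node 4096 (.node 2048 tabC_28 tabC_29) (.node 2048 tabC_30 tabC_31))))) (.node 32768 (.node 16384 (.node 8192 (.node 4096 (.node 2048 tabC_32 tabC_33) (.node 2048 tabC_34 tabC_35)) (.node 4096 (.node 2048 tabC_36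 tabC_37) (.node 2048 tabC_38 tabC_39))) (.node 8192 (.node 4096 (.node 2048 tabC_40 tabC_41) (.node 2048 tabC_42 tabC_43)) (.node 4096 (.node 2048 tabC_44 tabC_45) (.node 2048 tabC_46 tabC_47)))) (.node 16384 (.node 8192 (.node 4096 (.node 2048 tabC_48 tabC_49) (.node 2048 tabC_50 tabC_51)) (.node 4096 (.node 2048 tabC_52 tabC_53) (.node 2048 tabC_54 tabC_55))) (.node 8192 (.node 4096 (.node 2048 tabC_56 tabC_57) (.node 2048 tabC_58 tabC_59)) (.node 4096 (.node 2048 tabC_60 tabC_61) (.node 2048 tabC_62 tabC_63)))))) (.node 65536 (.node 32768 (.node 16384 (.node 8192 (.node 4096 (.node 2048 tabC_64 tabC_65) (.node 2048 tabC_66 tabC_67)) (.node 4096 (.node 2048 tabC_68 tabC_69) (.node 2048 tabC_70 tabC_71))) (.node 8192 (.node 4096 (.node 2048 tabC_72 tabC_73) (.node 2048 tabC_74 tabC_75)) (.node 4096 (.node 2048 tabC_76 tabC_77) (.node 2048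 tabC_78 tabC_79)))) (.node 16384 (.node 8192 (.node 4096 (.node 2048 tabC_80 tabC_81) (.node 2048 tabC_82 tabC_83)) (.node 4096 (.node 2048 tabC_84 tabC_85) (.node 2048 tabC_86 tabC_87))) (.node 8192 (.node 4096 (.node 2048 tabC_88 tabC_89) (.node 2048 tabC_90 tabC_91)) (.node 4096 (.node 2048 tabC_92 tabC_93) (.node 2048 tabC_94 tabC_95))))) (.node 16384 (.node 8192 (.node 4096 (.node 2048 tabC_96 tabC_97) (.node 2048 tabC_98 tabC_99)) (.node 4096 (.node 2048 tabC_100 tabC_101) (.node 2048 tabC_102 tabC_103))) tabC_104)))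

/-- Table. -/
def tabZ : Tab :=
  (.node 512 (.node 256 tabZ_0 tabZ_1) tabZ_2)

/-- Table. -/
def tabP : Tab :=
  (.node 512 (.node 256 tabP_0 tabP_1) tabP_2)

/-- The shifts in use. -/
def relWords : List (List Nat) :=
  [[4, 4],
    [8, 11, 2, 5],
    [7, 5, 1, 11],
    [7, 9, 1, 3],
    [1, 1, 1, 1, 1],
    [2, 2, 2, 2, 2],
    [5, 5, 5, 5, 5],
    [6, 5, 0, 11, 11],
    [6, 6, 7, 0, 0, 1],
    [3, 3, 6, 6, 6, 6],
    [9, 0, 3, 6, 6, 6],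
    [6, 6, 2, 0, 0, 2, 2],
    [10, 2, 4, 2, 7, 7, 8],
    [0, 0, 0, 0, 0, 0, 0, 0],
    [0, 1, 0, 1, 0, 1, 0, 1],
    [6, 8, 0, 11, 6, 2, 0, 5],
    [7, 8, 1, 11, 7, 2, 1, 5],
    [1, 8, 7, 11, 1, 2, 7, 5],
    [3, 5, 3, 11, 3, 5, 6, 6],
    [5, 6, 8, 0, 8, 6, 2, 0, 2],
    [8, 7, 8, 1, 2, 7, 2, 1, 5, 5],
    [8, 1, 8, 7, 2, 1, 2, 7, 11, 11],
    [3, 5, 3, 5, 3, 5, 3, 5, 3, 5],
    [10, 1, 2, 7, 4, 1, 8, 7, 7, 2, 7],
    [10, 5, 4, 1, 2, 7, 8, 7, 2, 1, 8],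
    [10, 1, 4, 1, 2, 2, 7, 7, 2, 1, 8],
    [6, 7, 0, 1, 6, 7, 0, 1, 6, 7, 0, 1],
    [6, 8, 0, 1, 8, 7, 6, 2, 0, 1, 2, 7],
    [7, 7, 2, 1, 2, 2, 1, 1, 8, 7, 8, 8],
    [6, 8, 0, 7, 8, 1, 6, 2, 0, 7, 2, 1, 5],
    [7, 8, 1, 1, 8, 7, 7, 2, 1, 1, 2, 7, 5],
    [6, 7, 2, 1, 0, 1, 8, 7, 8, 7, 2, 2, 1],
    [10, 7, 2, 1, 4, 0, 1, 2, 7, 2, 6, 8, 7, 7],
    [4, 0, 0, 4, 1, 2, 7, 11, 8, 6, 1, 6, 7, 7, 6],
    [4, 0, 1, 1, 0, 7, 0, 4, 1, 2, 7, 11, 8, 6, 6],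
    [7, 6, 2, 0, 1, 1, 2, 7, 2, 1, 2, 7, 7, 8, 1, 6, 8, 0],
    [4, 9, 8, 9, 1, 6, 7, 8, 9, 6, 8, 0, 8, 6, 2, 0, 1, 1],
    [6, 1, 2, 7, 0, 1, 8, 7, 8, 1, 8, 7, 7, 2, 1, 6, 2, 0, 8],
    [3, 10, 7, 6, 2, 10, 6, 10, 6, 5, 1, 2, 7, 2, 1, 0, 7, 7, 6],
    [4, 6, 2, 0, 4, 6, 8, 0, 4, 6, 2, 0, 1, 8, 7, 0, 7, 2, 1, 0, 0, 0],
    [0, 6],
    [1, 7],
    [2, 8],
    [3, 9],
    [4, 10],
    [5, 11],
    [6, 0],
    [7, 1],
    [8, 2],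
    [9, 3],
    [10, 4],
    [11, 5],
    []]

/-- Subgroup words. -/
def subWords : List (List Nat) :=
  [[0],
    [1],
    [2],
    [5]]

/-- The certificate. -/
def step : Signed.Cert :=
  ⟨relWords, subWords, [0, 1, 2, 3, 4, 5, 6, 7, 8, 9, 10, 11], tabF, tabC, tabZ, tabP, 65076, 213804, 3906, 6⟩

end Cfsg.Lib.CosetEnum.LyG2.Full
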