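import Cfsg.Agent.Lib.CosetEnum.LyG2.Full.Data

/-! Generated certificate. -/

set_option autoImplicit false
set_option maxRecDepth 20000

namespace Cfsg.Lib.CosetEnum.LyG2.Full

theorem defs_0 : defsOK tabF 6000 0 = true := by decide +kernel

theorem defs_1 : defsOK tabF 6000 6000 = true := by decide +kernel

theorem defs_2 : defsOK tabF 6000 12000 = true := by decide +kernel

theorem defs_3 : defsOK tabF 6000 18000 = true := by decide +kernel

theorem defs_4 : defsOK tabF 6000 24000 = true := by decide +kernel

theorem defs_5 : defsOK tabF 6000 30000 = true := by decide +kernel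

theorem defs_6 : defsOK tabF 6000 36000 = true := by decide +kernel

theorem defs_7 : defsOK tabF 6000 42000 = true := by decide +kernel

end Cfsg.Lib.CosetEnum.LyG2.Full
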