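import Cfsg.Agent.Lib.CosetEnum.LyG2.Full.Data

/-! Generated certificate. -/

set_option autoImplicit false
set_option maxRecDepth 20000

namespace Cfsg.Lib.CosetEnum.LyG2.Full

theorem steps_128 : Signed.stepsOKS 6 relWords subWords tabF tabC 65076 1500 192000 = true := by decide +kernel

theorem steps_129 : Signed.stepsOKS 6 relWords subWords tabF tabC 65076 1500 193500 = true := by decide +kernel

theorem steps_130 : Signed.stepsOKS 6 relWords subWords tabF tabC 65076 1500 195000 = true := by decide +kernel

theorem steps_131 : Signed.stepsOKS 6 relWords subWords tabF tabC 65076 1500 196500 = true := by decide +kernel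

theorem steps_132 : Signed.stepsOKS 6 relWords subWords tabF tabC 65076 1500 198000 = true := by decide +kernel

theorem steps_133 : Signed.stepsOKS 6 relWords subWords tabF tabC 65076 1500 199500 = true := by decide +kernel

theorem steps_134 : Signed.stepsOKS 6 relWords subWords tabF tabC 65076 1500 201000 = true := by decide +kernel

theorem steps_135 : Signed.stepsOKS 6 relWords subWords tabF tabC 65076 1500 202500 = true := by decide +kernel

end Cfsg.Lib.CosetEnum.LyG2.Full
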