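import Cfsg.Agent.Lib.CosetEnum.LyG2.Full.Data

/-! Generated certificate. -/

set_option autoImplicit false
set_option maxRecDepth 20000

namespace Cfsg.Lib.CosetEnum.LyG2.Full

theorem steps_48 : Signed.stepsOKS 6 relWords subWords tabF tabC 65076 1500 72000 = true := by decide +kernel

theorem steps_49 : Signed.stepsOKS 6 relWords subWords tabF tabC 65076 1500 73500 = true := by decide +kernel

theorem steps_50 : Signed.stepsOKS 6 relWords subWords tabF tabC 65076 1500 75000 = true := by decide +kernel

theorem steps_51 : Signed.stepsOKS 6 relWords subWords tabF tabC 65076 1500 76500 = true := by decide +kernel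

theorem steps_52 : Signed.stepsOKS 6 relWords subWords tabF tabC 65076 1500 78000 = true := by decide +kernel

theorem steps_53 : Signed.stepsOKS 6 relWords subWords tabF tabC 65076 1500 79500 = true := by decide +kernel

theorem steps_54 : Signed.stepsOKS 6 relWords subWords tabF tabC 65076 1500 81000 = true := by decide +kernel

theorem steps_55 : Signed.stepsOKS 6 relWords subWords tabF tabC 65076 1500 82500 = true := by decide +kernel

end Cfsg.Lib.CosetEnum.LyG2.Full
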